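import Groth.Agent.LefPen.K568.ChiHyp
import Groth.Agent.LefPen.K568.HypCI
import Groth.Agent.Lefpen.H608.CIH1
import Groth.Agent.Lefpen.H278.BigVanish
import Groth.Agent.Coherent.K51.CIDim
import Groth.Agent.CurvesC.DegIso
import Groth.Agent.Fga.TensorList
import Groth.Agent.S1534

/-!
# The cohomology of `O(m)`, `m ≥ 0`, on a plane conic (possibly singular)

`Q ≠ 0` a quadratic form on `P²`, `Y = V_+(Q)`: `Y` has dimension one, `h⁰(O) = 1`, `h⁰(O(1)) = 3`, `H^i(O(m)) = 0` for `i ≥ 1`,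
`m ≥ 0`; `deg O(1) = 2`, the genus is zero.
-/

set_option autoImplicit false
universe u

open CategoryTheory CategoryTheory.Limits AlgebraicGeometry Opposite TopologicalSpace

namespace K876.ConCoh

open K568.Chi K568.ChiP K568.Bott K568.TwGeo K568.GenSer K568.TwSys K568.OmSec LefPen
open Groth.Agent.Lefpen.H722.Sys Groth.Agent.Lefpen.H722.Ring Groth.Agent.Lefpen.H722.GSys
open Groth.Agent.Lefpen.H278.RingIso
open Groth.Agent.Lefpen.H718.Chart
open Groth.Agent.Lefpen.H728.OcSys hiding A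
open Groth.Agent.Lefpen.H728.LauSys
open Groth.Agent.Lefpen.H728.OHypCI
open K568.ChiHyp (lau_O)

section Compare

variable {k : Type u} [Field k] {ι : Type} [Fintype ι] {d : ℕ}
  (G : Fin d → MvPolynomial ι k) (a : Fin d → ℕ) (hG : ∀ j, (G j).IsHomogeneous (a j))

/-- The comparison of the systems. -/
noncomputable def cmp' (m : ℤ) : Hom (Oc G a d m) ((oMod G).sys m) where
  app I := (J G a d m I).liftQ (toGr G m I)
    (fun x hx => (toGr_eq_zero_iff G a hG m I x).mpr hx)
  nat {I I'} h x := by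
    obtain ⟨x, rfl⟩ := (SJ G a d m).cls_surjective x
    rfl

theorem cmp'_bijective (m : ℤ) (I : Set ι) : Function.Bijective ((cmp' G a hG m).app I) := by
  constructor
  · rw [← LinearMap.ker_eq_bot, LinearMap.ker_eq_bot']
    intro x hx
    obtain ⟨x, rfl⟩ := (SJ G a d m).cls_surjective x
    have h1 : toGr G m I x = 0 := hx
    exact ((SJ G a d m).cls_eq_zero x).mpr ((toGr_eq_zero_iff G a hG m I x).mp h1)
  · intro y
    obtain ⟨x, hx⟩ := toGr_surjective G m I y
    exact ⟨(SJ G a d m).cls x, hx⟩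

include hG in
theorem nonempty_cmp' (m : ℤ) (p : ℕ) : Nonempty (H (Oc G a d m) p ≃ₗ[k] H ((oMod G).sys m) p) :=
  nonempty_equiv_of_bijective (cmp' G a hG m) (fun I _ => cmp'_bijective G a hG m I) p

end Compare

section CI

variable {k : Type u} [Field k] {N d : ℕ} {a : Fin d → ℕ} (F : ∀ j : Fin d, Form N k (a j))

/-- The cohomology of `O(m)` on a complete intersection. -/
theorem nonempty_HH (m : ℤ) (i : ℕ) [(Y F).Over (Spec (CommRingCat.of k))]
    (hover : (Y F) ↘ Spec (CommRingCat.of k) = yStr F) :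
    Nonempty (H (Oc (Gp F) a d m) i ≃ₗ[k]
      Coh.HH (Y F) ((Scheme.Modules.pullback (yι F)).obj (Twist.twistProjSpace N k m)) i) := by
  obtain ⟨e1⟩ := nonempty_cmp' (Gp F) a (fun j => (F j).2) m i
  obtain ⟨τ⟩ := nonempty_ciTw F m
  have hq : Coh.IsQCoh (Coh.structureModule (Y F)) := Groth.Agent.PerfA.QCohSerre.isQCoh_unit _
  obtain ⟨e2⟩ := ((oSec (ciData F)).twist τ).nonempty_equiv hover
    (Groth.Agent.Ega2.TensGen.isQCoh_tensor hq τ.inv) i
  rw [zero_add] at e2
  exact ⟨e1.trans (e2.trans (Groth.Agent.CurvesA.HHMap.equivOver k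
    (Groth.Agent.Fga.TensorList.unitTensor ((Scheme.Modules.pullback (yι F)).obj (Twist.twistProjSpace N k m))) i))⟩

end CI

section Conic

variable {k : Type u} [Field k] (F : ∀ _ : Fin 1, Form 2 k 2) (hF : (F 0).1 ≠ 0)

/-- The degrees. -/
abbrev dg : Fin 1 → ℕ := fun _ => 2

include hF

theorem isReg : Groth.Agent.Coherent.K51.CIReg.IsReg (a := dg) F := by
  intro c f hf
  have h1 : ((fun j => (F j).1) '' {j | j < c}) = ∅ := by
    rw [Set.image_eq_empty]
    ext j
    simp only [Set.mem_ofPred_eq, Set.mem_empty_iff_false, iff_false, not_lt]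
    exact (Subsingleton.elim c j).le
  rw [h1, Ideal.span_empty, Ideal.mem_bot] at hf ⊢
  obtain rfl : c = 0 := Subsingleton.elim _ _
  exact (mul_eq_zero.1 hf).resolve_left hF

theorem dim_le : topologicalKrullDim ↥(Y (a := dg) F) ≤ ((1 : ℕ) : WithBot ℕ∞) :=
  Groth.Agent.Coherent.K51.CIDim.dim_le_of_isReg (isReg F hF)

theorem hht : ((1 : ℕ) : ℕ∞) ≤ (Ideal.span (Set.range (Gp (a := dg) F))).height :=
  Groth.Agent.Coherent.K51.CIHeight.le_height (a := dg) F one_le_two (dim_le F hF)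

theorem subsingleton_H1 (m : ℤ) (hm : 0 ≤ m) : Subsingleton (H (Oc (Gp (a := dg) F) dg 1 m) 1) := by
  refine Groth.Agent.Lefpen.H728.OcSys.subsingleton_top (Gp (a := dg) F) dg (fun _ => one_le_two)
    (fun j => (F j).2) (hht F hF) 1 le_rfl 0 (by rw [Fintype.card_fin]) m ?_
  have h3 : Groth.Agent.Lefpen.H728.OcSys.A dg 1 = 2 := by
    unfold Groth.Agent.Lefpen.H728.OcSys.A
    simp
  rw [h3, Fintype.card_fin]
  push_cast
  omega

theorem finrank_H0_zero : Module.finrank k (H (Oc (Gp (a := dg) F) dg 1 0) 0) = 1 :=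
  Groth.Agent.Lefpen.H728.OcSys.finrank_zero (Gp (a := dg) F) dg (fun _ => one_le_two)
    (fun j => (F j).2) (hht F hF) 1 le_rfl (by rw [Fintype.card_fin])

omit hF in
theorem b_two_one : b 2 1 = 3 := by
  have h1 : b 2 (1 - 1) = b 2 1 - b 1 1 := b_rec 1 1
  have h2 : b 1 (1 - 1) = b 1 1 - b 0 1 := b_rec 0 1
  rw [sub_self, b_at_zero] at h1 h2
  rw [b_zero] at h2
  omega

omit hF in
theorem finrank_O_one : Module.finrank k (H (O (pG 2 k) 1) 0) = 3 := by
  have h := chi_O 2 k one_le_two 1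
  have h1 : Subsingleton (H (O (pG 2 k) 1) 1) := (pHyp (k := k) (N := 2) one_le_two).mid 1 1 one_pos (by norm_num)
  have h2 : Subsingleton (H (O (pG 2 k) 1) 2) := (pHyp (k := k) (N := 2) one_le_two).top 1 (by norm_num)
  rw [b_two_one] at h
  unfold chi at h
  rw [Finset.sum_range_succ, Finset.sum_range_succ, Finset.sum_range_one,
    Module.finrank_zero_of_subsingleton (M := H (O (pG 2 k) 1) 1),
    Module.finrank_zero_of_subsingleton (M := H (O (pG 2 k) 1) 2)] at h
  rw [Nat.cast_zero, mul_zero, mul_zero, add_zero, add_zero, pow_zero, one_mul] at h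
  exact_mod_cast h

theorem finrank_H0_one : Module.finrank k (H (Oc (Gp (a := dg) F) dg 1 1) 0) = 3 := by
  obtain ⟨e⟩ := nonempty_equiv_right (Groth.Agent.Lefpen.H728.OcSys.isSES (Gp (a := dg) F) dg (fun _ => one_le_two)
      (fun j => (F j).2) (hht F hF) 0 (1 - 2) 1 (by norm_num [dg])) 0
    (Groth.Agent.Lefpen.H728.OcSys.subsingleton_low (Gp (a := dg) F) dg (fun _ => one_le_two)
      (fun j => (F j).2) (hht F hF) 0 (by norm_num) (by rw [Fintype.card_fin]; norm_num) _ (by norm_num))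
    (Groth.Agent.Lefpen.H728.OcSys.subsingleton_mid (Gp (a := dg) F) dg (fun _ => one_le_two)
      (fun j => (F j).2) (hht F hF) 0 (by norm_num) _ 1 (by norm_num) (by rw [Fintype.card_fin]; norm_num))
  obtain ⟨e1⟩ := lau_O (k := k) 2 1 0
  obtain ⟨e2⟩ := nonempty_base_equiv (Gp (a := dg) F) dg 1 0
  exact e.finrank_eq.symm.trans ((e1.trans e2).finrank_eq.symm.trans finrank_O_one)

section Geo

variable [(Y (a := dg) F).Over (Spec (CommRingCat.of k))]
  (hover : (Y (a := dg) F) ↘ Spec (CommRingCat.of k) = yStr (a := dg) F)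

/-- The module `O(1)`. -/
noncomputable abbrev L1 : (Y (a := dg) F).Modules :=
  (Scheme.Modules.pullback (yι (a := dg) F)).obj (Twist.twistProjSpace 2 k 1)

include hover

theorem h0_O : Module.finrank k (Coh.HH (Y (a := dg) F) (Coh.structureModule (Y (a := dg) F)) 0) = 1 := by
  obtain ⟨e⟩ := Groth.Agent.Lefpen.H608.CIH1.nonempty_equiv_Oc (a := dg) F hover 0
  exact e.finrank_eq.symm.trans (finrank_H0_zero F hF)

theorem h1_O : Module.finrank k (Coh.HH (Y (a := dg) F) (Coh.structureModule (Y (a := dg) F)) 1) = 0 := by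
  obtain ⟨e⟩ := Groth.Agent.Lefpen.H608.CIH1.nonempty_equiv_Oc (a := dg) F hover 1
  have := subsingleton_H1 F hF 0 le_rfl
  exact e.finrank_eq.symm.trans Module.finrank_zero_of_subsingleton

theorem h0_L : Module.finrank k (Coh.HH (Y (a := dg) F) (L1 F) 0) = 3 := by
  obtain ⟨e⟩ := nonempty_HH (a := dg) F 1 0 hover
  exact e.finrank_eq.symm.trans (finrank_H0_one F hF)

theorem h1_L : Module.finrank k (Coh.HH (Y (a := dg) F) (L1 F) 1) = 0 := by
  obtain ⟨e⟩ := nonempty_HH (a := dg) F 1 1 hover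
  have := subsingleton_H1 F hF 1 zero_le_one
  exact e.finrank_eq.symm.trans Module.finrank_zero_of_subsingleton

omit hover in
theorem h2 (M : (Y (a := dg) F).Modules) (i : ℕ) (hi : 1 < i) :
    Module.finrank k (Coh.HH (Y (a := dg) F) M i) = 0 := by
  have := Groth.Agent.Lefpen.H278.BigVanish.isNoetherian_Y (a := dg) F
  have := Groth.Agent.Fga.EulerLEAdd.subsingleton_HH (Y (a := dg) F) 1 (dim_le F hF) M i hi
  exact Module.finrank_zero_of_subsingleton

omit hover in
theorem euler_eq (M : (Y (a := dg) F).Modules) (h1 : Module.finrank k (Coh.HH (Y (a := dg) F) M 1) = 0) :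
    Curv2.euler k (Y (a := dg) F) M = Module.finrank k (Coh.HH (Y (a := dg) F) M 0) := by
  unfold Curv2.euler
  rw [finsum_eq_single _ 0]
  · rw [pow_zero, one_mul]
  · intro i hi
    rcases Nat.lt_or_ge 1 i with h | h
    · rw [h2 F hF M i h, Nat.cast_zero, mul_zero]
    · obtain rfl : i = 1 := by omega
      rw [h1, Nat.cast_zero, mul_zero]

theorem deg_L : Curv2.deg k (Y (a := dg) F) (L1 F) 1 = 2 := by
  unfold Curv2.deg
  rw [euler_eq F hF _ (h1_L F hF hover), euler_eq F hF _ (h1_O F hF hover), h0_L F hF hover, h0_O F hF hover]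
  norm_num

omit [(Y (a := dg) F).Over (Spec (CommRingCat.of k))] hover in
theorem nonempty_Y : Nonempty (Y (a := dg) F) := by
  letI : (Y (a := dg) F).Over (Spec (CommRingCat.of k)) := ⟨yStr (a := dg) F⟩
  have hnt : Nontrivial Γ(Y (a := dg) F, ⊤) := Groth.Agent.CurvesB.HZero.nontrivial_of_h0 k (h0_O F hF rfl)
  by_contra hcon
  rw [not_nonempty_iff] at hcon
  have : Subsingleton Γ(Y (a := dg) F, ⊤) := by
    have h : (⊤ : (Y (a := dg) F).Opens) = ⊥ := by
      ext x
      exact hcon.elim x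
    rw [h]
    infer_instance
  exact not_subsingleton _ this

omit [(Y (a := dg) F).Over (Spec (CommRingCat.of k))] hover in
theorem dim_eq : topologicalKrullDim ↥(Y (a := dg) F) = 1 := by
  have := nonempty_Y F hF
  exact Groth.Agent.Coherent.K51.CIDim.dim_eq_of_isReg (isReg F hF)

end Geo

end Conic

end K876.ConCoh
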