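import Groth.Agent.Fano.K876.ConNod
import Groth.Agent.Fano.K876.ConCoh
import Groth.Agent.CurvesC.DualInvNodal
import Groth.Prelude.Def_StMap

/-!
# Plane conics over an algebraically closed field

* `isPrestablePtd`: a plane conic of rank at least two is a connected nodal curve of genus zero.
* `deg_eq_two`: the degree of `O(1)` is two.
* `exists_disc3_ne_zero`: a nodal plane conic has rank at least two.
-/

set_option autoImplicit false

universe u

open CategoryTheory CategoryTheory.Limits AlgebraicGeometry TopologicalSpace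

namespace K876.ConC

open K390.PnSec Groth.Agent.Fdesc.LocGen Groth.Agent.Dix.ProjProper
open K188.LineDef K745.ConDef LefPen K876.ConIso K876.ConNod K876.ConCoh K876.ConAlg K876.ConNodal
open Groth.Agent.Lefpen.H718.Chart Groth.Agent.Sga5

section Alg

variable {k : Type u} [Field k]

theorem qf_ne_zero (c : Fin 5 → k) : qf c ≠ 0 := by
  intro h
  have h1 := congrArg (MvPolynomial.eval ![(1 : k), 0, 0]) h
  simp [qf] at h1

/-- The double line is not reduced. -/
theorem not_isReduced (h2 : (2 : k) ≠ 0) (a b p q r : k) (h0 : 4 * p - a ^ 2 = 0) (h1 : 4 * q - 2 * a * b = 0)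
    (h3 : 4 * r - b ^ 2 = 0) : ¬ _root_.IsReduced (MvPolynomial (Fin 2) k ⧸ Ideal.span {fc a b p q r}) := by
  intro hred
  set l : MvPolynomial (Fin 2) k := MvPolynomial.C 2 * MvPolynomial.X 0 + MvPolynomial.C a +
    MvPolynomial.C b * MvPolynomial.X 1 with hl
  have hsq : l ^ 2 = MvPolynomial.C 4 * fc a b p q r := by
    rw [four_mul_fc, h0, h1, h3, map_zero, zero_mul, zero_mul, add_zero, add_zero, add_zero]
  have hmk : Ideal.Quotient.mk (Ideal.span {fc a b p q r}) l = 0 := by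
    have h5 : (Ideal.Quotient.mk (Ideal.span {fc a b p q r}) l) ^ 2 = 0 := by
      rw [← map_pow, hsq, Ideal.Quotient.eq_zero_iff_mem]
      exact Ideal.mul_mem_left _ _ (Ideal.mem_span_singleton_self _)
    exact (IsNilpotent.eq_zero ⟨2, h5⟩)
  rw [Ideal.Quotient.eq_zero_iff_mem, Ideal.mem_span_singleton] at hmk
  obtain ⟨t, ht⟩ := hmk
  have h4 : l * (l * t - MvPolynomial.C 4) = 0 := by
    have e1 : l * (l * t - MvPolynomial.C 4) = l ^ 2 * t - MvPolynomial.C 4 * l := by ring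
    rw [e1, hsq]
    conv_lhs => rw [ht]
    ring
  have hev : ∀ y : k, MvPolynomial.eval ![y, 0] l = 2 * y + a := by
    intro y
    simp [hl]
  rcases mul_eq_zero.1 h4 with h | h
  · have e1 := hev ((1 - a) / 2)
    rw [h, map_zero, mul_div_cancel₀ _ h2, sub_add_cancel] at e1
    exact one_ne_zero e1.symm
  · have e1 := hev (-a / 2)
    rw [mul_div_cancel₀ _ h2, neg_add_cancel] at e1
    have e2 := congrArg (MvPolynomial.eval ![-a / 2, 0]) h
    rw [map_sub, map_mul, e1, zero_mul, MvPolynomial.eval_C, zero_sub, map_zero, neg_eq_zero] at e2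
    have h22 : (2 : k) * 2 = 0 := by
      rw [← e2]; norm_num
    rcases mul_eq_zero.1 h22 with h | h <;> exact h2 h

end Alg

section Transport

variable {k : Type u} [Field k] {Z X : Scheme.{u}} [Z.Over (Spec (CommRingCat.of k))] [X.Over (Spec (CommRingCat.of k))]

/-- The cohomology of the structure sheaf along an isomorphism. -/
theorem finrank_structure (e : Z ≅ X) (he : e.hom ≫ (X ↘ Spec (CommRingCat.of k)) = Z ↘ Spec (CommRingCat.of k))
    (i : ℕ) : Module.finrank k (Coh.HH Z (Coh.structureModule Z) i) =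
      Module.finrank k (Coh.HH X (Coh.structureModule X) i) := by
  rw [← Groth.Agent.CurvesC.DegIso.finrank_congr k (Groth.Agent.CurvesA.HHMap.pullbackUnit e.hom),
    ← Groth.Agent.CurvesC.DegIso.finrank_push k e.hom he,
    ← Groth.Agent.CurvesC.DegIso.finrank_congr k (Groth.Agent.CurvesC.DegIso.unitIso e _)]

end Transport

variable (Ω : Type u) [Field Ω] [IsAlgClosed Ω] {C : Scheme.{u}} (q : C ⟶ Spec (CommRingCat.of Ω))
  (c : Fin 5 → Γ(Spec (CommRingCat.of Ω), ⊤)) {L : C.Modules} (x : Fin 3 → Γ(L, ⊤)) (h : IsCon c q L x)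

/-- The form. -/
noncomputable abbrev FF : ∀ _ : Fin 1, Form 2 Ω 2 := K568.HypCI.one (Qf (cf c))

omit [IsAlgClosed Ω] in
theorem FF_ne : ((FF Ω c) 0).1 ≠ 0 := qf_ne_zero _

include h

omit [IsAlgClosed Ω] in
theorem exists_iso_ideal (I : (CohB1.ProjSpace 2 Ω).IdealSheafData) (hI : hypIdeal (Qf (cf c)) = I) :
    ∃ m : C ⟶ I.subscheme, IsIso m ∧ m ≫ I.subschemeι ≫ CohB1.ProjSpace.toSpec 2 Ω = q ∧
      GivenBy (m ≫ I.subschemeι) L x := by
  subst hI
  exact exists_iso_hyp h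

omit [IsAlgClosed Ω] in
theorem exists_iso_ci : ∃ m : C ⟶ Y (a := dg) (FF Ω c), IsIso m ∧ m ≫ yStr (a := dg) (FF Ω c) = q ∧
    GivenBy (m ≫ yι (a := dg) (FF Ω c)) L x :=
  exists_iso_ideal Ω q c x h (ciIdeal (a := dg) (FF Ω c)) (K568.HypCI.ciIdeal_one _).symm

omit h in
omit [IsAlgClosed Ω] in
theorem disc3_cf (i : Fin 3) : disc3 (cf c) i = (Scheme.ΓSpecIso (CommRingCat.of Ω)).hom (disc3 c i) := by
  have hi3 : i = 0 ∨ i = 1 ∨ i = 2 := by
    fin_cases i <;> simp
  rcases hi3 with rfl | rfl | rfl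
  · change 4 * cf c 2 - cf c 0 ^ 2 = (Scheme.ΓSpecIso (CommRingCat.of Ω)).hom (4 * c 2 - c 0 ^ 2)
    simp only [cf, map_sub, map_mul, map_pow, map_ofNat]
  · change 4 * cf c 3 - 2 * cf c 0 * cf c 1 = (Scheme.ΓSpecIso (CommRingCat.of Ω)).hom (4 * c 3 - 2 * c 0 * c 1)
    simp only [cf, map_sub, map_mul, map_ofNat]
  · change 4 * cf c 4 - cf c 1 ^ 2 = (Scheme.ΓSpecIso (CommRingCat.of Ω)).hom (4 * c 4 - c 1 ^ 2)
    simp only [cf, map_sub, map_mul, map_pow, map_ofNat]

omit h in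
omit [IsAlgClosed Ω] in
theorem disc3_cf_ne_zero_iff (i : Fin 3) : disc3 (cf c) i ≠ 0 ↔ disc3 c i ≠ 0 := by
  rw [disc3_cf]
  exact (map_ne_zero_iff _ (ConcreteCategory.bijective_of_isIso (Scheme.ΓSpecIso (CommRingCat.of Ω)).hom).1)

/-- Node K5b: the degree of `O(1)` on a plane conic. -/
theorem deg_eq_two : letI : C.Over (Spec (CommRingCat.of Ω)) := ⟨q⟩; Curv2.deg Ω C L 1 = 2 := by
  letI : C.Over (Spec (CommRingCat.of Ω)) := ⟨q⟩
  letI : (Y (a := dg) (FF Ω c)).Over (Spec (CommRingCat.of Ω)) := ⟨yStr (a := dg) (FF Ω c)⟩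
  obtain ⟨m, hm, hmq, τ, hτ⟩ := exists_iso_ci Ω q c x h
  have e1 := Groth.Agent.CurvesC.DegIso.deg_pullback_iso Ω (asIso m) hmq (L1 (FF Ω c)) 1
  have e2 := deg_L (FF Ω c) (FF_ne Ω c) rfl
  have e3 := Groth.Agent.CurvesC.DegIso.deg_congr Ω
    (((Scheme.Modules.pullbackComp m (yι (a := dg) (FF Ω c))).app (O1 2 Ω)) ≪≫ τ) 1
  exact e3.symm.trans (e1.trans e2)

/-- Node K5a: a plane conic of rank at least two is a connected nodal curve of genus `0`. -/
theorem isPrestablePtd [NeZero (2 : Ω)] (hc : ∃ i, disc3 c i ≠ 0) (p : Fin 0 → C) :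
    StMap.IsPrestablePtd Ω C q 0 p := by
  letI : C.Over (Spec (CommRingCat.of Ω)) := ⟨q⟩
  letI : (Y (a := dg) (FF Ω c)).Over (Spec (CommRingCat.of Ω)) := ⟨yStr (a := dg) (FF Ω c)⟩
  obtain ⟨m, hm, hmq, -⟩ := exists_iso_ci Ω q c x h
  obtain ⟨m', hm', hmq', -⟩ := exists_iso_hyp h
  have hproper : IsProper q := by
    rw [← hmq]
    have := Groth.Agent.Lefpen.H278.BigVanish.isProper_yStr (a := dg) (FF Ω c)
    infer_instance
  have hdim : topologicalKrullDim C = 1 := by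
    rw [← dim_eq (FF Ω c) (FF_ne Ω c)]
    exact (Scheme.homeoOfIso (asIso m)).isHomeomorph.topologicalKrullDim_eq _
  have h0 : Module.finrank Ω (Coh.HH C (Coh.structureModule C) 0) = 1 :=
    (finrank_structure (asIso m) hmq 0).trans (h0_O (FF Ω c) (FF_ne Ω c) rfl)
  have h1 : Curv2.genus Ω C = 0 :=
    (finrank_structure (asIso m) hmq 1).trans (h1_O (FF Ω c) (FF_ne Ω c) rfl)
  have hp' : IsProper (C ↘ Spec (CommRingCat.of Ω)) := hproper
  refine ⟨hproper, (Groth.Agent.S1534.result Ω C hdim h0).1, hdim, ⟨?_, h1⟩, ?_, fun i => i.elim0⟩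
  · obtain ⟨i, hi⟩ := hc
    exact atWorstNodal (NeZero.ne (2 : Ω)) (cf c) ⟨i, (disc3_cf_ne_zero_iff Ω c i).2 hi⟩ q m' hmq'
  · exact Function.injective_of_subsingleton _

/-- Node K5c: a nodal plane conic has rank at least two. -/
theorem exists_disc3_ne_zero [NeZero (2 : Ω)]
    (hn : letI : C.Over (Spec (CommRingCat.of Ω)) := ⟨q⟩; Curv2.AtWorstNodal Ω C) : ∃ i, disc3 c i ≠ 0 := by
  letI : C.Over (Spec (CommRingCat.of Ω)) := ⟨q⟩
  by_contra hcon
  have hz : ∀ i, disc3 (cf c) i = 0 := by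
    intro i
    by_contra hi
    exact hcon ⟨i, (disc3_cf_ne_zero_iff Ω c i).1 hi⟩
  obtain ⟨m, hm, hmq, -⟩ := exists_iso_hyp h
  have hft : LocallyOfFiniteType (C ↘ Spec (CommRingCat.of Ω)) := by
    change LocallyOfFiniteType q
    rw [← hmq]
    infer_instance
  have hredC : IsReduced C := Groth.Agent.CurvesC.DualInvNodal.isReduced_of_atWorstNodal hn
  have hredV : IsReduced (hypIdeal (Qf (cf c))).subscheme := isReduced_of_isOpenImmersion (inv m)
  have e1 : ProjChart.dehom 2 Ω 1 (Qf (cf c)).1 = fc (cf c 0) (cf c 1) (cf c 2) (cf c 3) (cf c 4) :=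
    dehom_qf_one (cf c)
  obtain ⟨g, hg⟩ := Groth.Agent.Lefpen.H719.Chart.exists_chart
    (B := CommRingCat.of (MvPolynomial (Fin 2) Ω ⧸ Ideal.span {fc (cf c 0) (cf c 1) (cf c 2) (cf c 3) (cf c 4)}))
    (Qf (cf c)) 1 (Ideal.Quotient.mk _) Ideal.Quotient.mk_surjective (by rw [Ideal.mk_ker, e1])
  have hgo : IsOpenImmersion g := MorphismProperty.of_isPullback (P := @IsOpenImmersion) hg inferInstance
  have hredB : IsReduced (Spec (CommRingCat.of (MvPolynomial (Fin 2) Ω ⧸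
    Ideal.span {fc (cf c 0) (cf c 1) (cf c 2) (cf c 3) (cf c 4)}))) := isReduced_of_isOpenImmersion g
  rw [affine_isReduced_iff] at hredB
  exact not_isReduced (NeZero.ne (2 : Ω)) _ _ _ _ _ (hz 0) (hz 1) (hz 2) hredB

end K876.ConC
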