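import Groth.Agent.Models.NodeRing
import Groth.Agent.Lefpen.H705.JacHyp
import Mathlib.FieldTheory.IsAlgClosed.Basic

/-!
# Affine conics over an algebraically closed field

`fc a b p q r = X_0² + a X_0 + b X_0 X_1 + p + q X_1 + r X_1²` with
`4 f = (2 X_0 + a + b X_1)² + (4p - a²) + (4q - 2ab) X_1 + (4r - b²) X_1²`.  If the three coefficients of the second part are
not all zero then `k[X_0, X_1]/(f)` is isomorphic to `k[u, v]/(uv - c)` or smooth.
-/

set_option autoImplicit false
universe u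

open MvPolynomial

namespace K876.ConAlg

open Groth.Agent.Models.NodeRing

section CommRing

variable {A : Type u} [CommRing A]

/-- A general affine conic, monic in `X_0`. -/
noncomputable def fc (a b p q r : A) : MvPolynomial (Fin 2) A :=
  X 0 ^ 2 + C a * X 0 + C b * (X 0 * X 1) + C p + C q * X 1 + C r * X 1 ^ 2

theorem four_mul_fc (a b p q r : A) : C 4 * fc a b p q r =
    (C 2 * X 0 + C a + C b * X 1) ^ 2 + C (4 * p - a ^ 2) + C (4 * q - 2 * a * b) * X 1 +
      C (4 * r - b ^ 2) * X 1 ^ 2 := by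
  simp only [fc, map_sub, map_mul, map_pow, map_ofNat]
  ring

variable (h η δ e a b x y : A)

/-- The inverse substitution. -/
def P1 : A := η * (y - x + 2 * e)

/-- The inverse substitution. -/
def P0 : A := h * (h * (x + y) - a - b * P1 η e x y)

/-- The substitution. -/
def U0 : A := 2 * x + a + b * y - (δ * y - e)

/-- The substitution. -/
def U1 : A := 2 * x + a + b * y + (δ * y - e)

variable {h η δ}

theorem U0_P (h1 : h * 2 = 1) (h2 : η * (2 * δ) = 1) :
    U0 δ e a b (P0 h η e a b x y) (P1 η e x y) = x := by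
  simp only [U0, P0, P1]
  linear_combination (h * (x + y) - a - b * η * (y - x + 2 * e) + δ * η * (y - x + 2 * e) + x - e) * h1 -
    (h * (y - x + 2 * e)) * h2

theorem U1_P (h1 : h * 2 = 1) (h2 : η * (2 * δ) = 1) :
    U1 δ e a b (P0 h η e a b x y) (P1 η e x y) = y := by
  simp only [U1, P0, P1]
  linear_combination (h * (x + y) - a - b * η * (y - x + 2 * e) - δ * η * (y - x + 2 * e) + y + e) * h1 +
    (h * (y - x + 2 * e)) * h2

theorem P1_U (h2 : η * (2 * δ) = 1) :
    P1 η e (U0 δ e a b x y) (U1 δ e a b x y) = y := by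
  simp only [U0, U1, P1]
  linear_combination y * h2

theorem P0_U (h1 : h * 2 = 1) (h2 : η * (2 * δ) = 1) :
    P0 h η e a b (U0 δ e a b x y) (U1 δ e a b x y) = x := by
  simp only [U0, U1, P0, P1]
  linear_combination (x + h * (2 * x + a + b * y)) * h1 - h * b * y * h2

variable {B : Type u} [CommRing B] (f : A →+* B)

theorem map_P1 : f (P1 η e x y) = P1 (f η) (f e) (f x) (f y) := by
  simp only [P1, map_mul, map_add, map_sub, map_ofNat]

theorem map_P0 : f (P0 h η e a b x y) = P0 (f h) (f η) (f e) (f a) (f b) (f x) (f y) := by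
  simp only [P0, map_mul, map_add, map_sub, map_P1]

theorem map_U0 : f (U0 δ e a b x y) = U0 (f δ) (f e) (f a) (f b) (f x) (f y) := by
  simp only [U0, map_mul, map_add, map_sub, map_ofNat]

theorem map_U1 : f (U1 δ e a b x y) = U1 (f δ) (f e) (f a) (f b) (f x) (f y) := by
  simp only [U1, map_mul, map_add, map_sub, map_ofNat]

end CommRing

section aut

variable {A : Type u} [CommRing A] {h η δ : A} (e a b : A) (h1 : h * 2 = 1) (h2 : η * (2 * δ) = 1)

include h1 h2

/-- The affine automorphism used to diagonalize. -/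
noncomputable def aut : MvPolynomial (Fin 2) A ≃ₐ[A] MvPolynomial (Fin 2) A :=
  have e1 : (C h : MvPolynomial (Fin 2) A) * 2 = 1 := by
    rw [← map_ofNat (C : A →+* MvPolynomial (Fin 2) A) 2, ← C_mul, h1, C_1]
  have e2 : (C η : MvPolynomial (Fin 2) A) * (2 * C δ) = 1 := by
    rw [← map_ofNat (C : A →+* MvPolynomial (Fin 2) A) 2, ← C_mul, ← C_mul, h2, C_1]
  AlgEquiv.ofAlgHom
    (aeval ![U0 (C δ) (C e) (C a) (C b) (X 0) (X 1), U1 (C δ) (C e) (C a) (C b) (X 0) (X 1)])
    (aeval ![P0 (C h) (C η) (C e) (C a) (C b) (X 0) (X 1), P1 (C η) (C e) (X 0) (X 1)])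
    (by
      ext i : 1
      simp only [AlgHom.comp_apply, AlgHom.id_apply, aeval_X]
      fin_cases i
      · refine (map_P0 (h := (C h : MvPolynomial (Fin 2) A)) _ _ _ _ _ (_ : _ →+* _)).trans ?_
        simp
        exact P0_U _ _ _ _ _ e1 e2
      · refine (map_P1 (η := (C η : MvPolynomial (Fin 2) A)) _ _ _ (_ : _ →+* _)).trans ?_
        simp
        exact P1_U _ _ _ _ _ e2)
    (by
      ext i : 1
      simp only [AlgHom.comp_apply, AlgHom.id_apply, aeval_X]
      fin_cases i
      · refine (map_U0 (δ := (C δ : MvPolynomial (Fin 2) A)) _ _ _ _ _ (_ : _ →+* _)).trans ?_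
        simp
        exact U0_P _ _ _ _ _ e1 e2
      · refine (map_U1 (δ := (C δ : MvPolynomial (Fin 2) A)) _ _ _ _ _ (_ : _ →+* _)).trans ?_
        simp
        exact U1_P _ _ _ _ _ e1 e2)

theorem aut_X0 : aut e a b h1 h2 (X 0) = U0 (C δ) (C e) (C a) (C b) (X 0) (X 1) := by
  change aeval _ (X 0) = _
  rw [aeval_X]; rfl

theorem aut_X1 : aut e a b h1 h2 (X 1) = U1 (C δ) (C e) (C a) (C b) (X 0) (X 1) := by
  change aeval _ (X 1) = _
  rw [aeval_X]; rfl

/-- The equation of the conic in the new coordinates. -/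
theorem aut_node (p q r : A) (hd1 : 4 * q - 2 * a * b = 2 * δ * e) (hd2 : 4 * r - b ^ 2 = - δ ^ 2) :
    aut e a b h1 h2 (X 0 * X 1 - C (- (4 * p - a ^ 2) - e ^ 2)) = C 4 * fc a b p q r := by
  rw [four_mul_fc, hd1, hd2, map_sub, map_mul, aut_X0, aut_X1]
  have h3 : aut e a b h1 h2 (C (- (4 * p - a ^ 2) - e ^ 2)) = C (- (4 * p - a ^ 2) - e ^ 2) :=
    (aut e a b h1 h2).commutes _
  rw [h3]
  simp only [U0, U1, map_sub, map_mul, map_neg, map_pow, map_ofNat]
  ring

/-- The coordinate ring of a conic with two points at infinity. -/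
theorem exists_node (p q r : A) (hd1 : 4 * q - 2 * a * b = 2 * δ * e) (hd2 : 4 * r - b ^ 2 = - δ ^ 2) :
    ∃ φ : MvPolynomial (Fin 2) A →ₐ[A] W A (- (4 * p - a ^ 2) - e ^ 2), Function.Surjective φ ∧
      RingHom.ker φ = Ideal.span {fc a b p q r} := by
  let σ := aut e a b h1 h2
  let I : Ideal (MvPolynomial (Fin 2) A) := Ideal.span {X 0 * X 1 - C (- (4 * p - a ^ 2) - e ^ 2)}
  refine ⟨(Ideal.Quotient.mkₐ A I).comp σ.symm.toAlgHom, ?_, ?_⟩
  · exact (Ideal.Quotient.mkₐ_surjective A I).comp σ.symm.surjective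
  · ext z
    have hu : IsUnit (C 4 : MvPolynomial (Fin 2) A) := by
      refine (isUnit_iff_exists_inv.2 ⟨h * h, ?_⟩ : IsUnit (4 : A)).map C
      linear_combination (h * 2 + 1) * h1
    have h5 : z ∈ Ideal.span {fc a b p q r} ↔ z ∈ Ideal.span {C 4 * fc a b p q r} := by
      rw [Ideal.mem_span_singleton, Ideal.mem_span_singleton]
      exact (hu.mul_left_dvd).symm
    rw [h5, ← aut_node e a b h1 h2 p q r hd1 hd2]
    have h6 : z ∈ RingHom.ker ((Ideal.Quotient.mkₐ A I).comp σ.symm.toAlgHom) ↔ σ.symm z ∈ I := by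
      rw [RingHom.mem_ker]
      exact Ideal.Quotient.eq_zero_iff_mem
    refine h6.trans ?_
    rw [Ideal.mem_span_singleton, Ideal.mem_span_singleton]
    constructor
    · rintro ⟨w, hw⟩
      refine ⟨σ w, ?_⟩
      rw [← map_mul, ← hw]
      exact (σ.apply_symm_apply z).symm
    · rintro ⟨w, rfl⟩
      refine ⟨σ.symm w, ?_⟩
      rw [map_mul]
      congr 1
      exact σ.symm_apply_apply _

end aut

section smooth

variable {A : Type u} [CommRing A]

theorem pderiv_fc (a b p q r : A) :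
    pderiv 0 (fc a b p q r) = 2 * X 0 + C a + C b * X 1 ∧
      pderiv 1 (fc a b p q r) = C b * X 0 + C q + 2 * (C r * X 1) := by
  constructor
  · simp [fc, Derivation.leibniz_pow]
  · simp [fc, Derivation.leibniz_pow]
    ring

/-- Smoothness when there is at most one point at infinity. -/
theorem smooth_fc (a b p q r : A) (hd2 : 4 * r - b ^ 2 = 0)
    (hu : IsUnit (4 * q - 2 * a * b) ∨ (4 * q - 2 * a * b = 0 ∧ IsUnit (4 * p - a ^ 2))) :
    Algebra.Smooth A (MvPolynomial (Fin 2) A ⧸ Ideal.span {fc a b p q r}) := by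
  apply Groth.Agent.Lefpen.H705.JacHyp.smooth_quotient_of_pderiv
  set J := Ideal.span ({fc a b p q r} ∪ Set.range fun i => pderiv i (fc a b p q r)) with hJ
  have j0 : fc a b p q r ∈ J := Ideal.subset_span (Or.inl rfl)
  have j1 : 2 * X 0 + C a + C b * X 1 ∈ J := by
    rw [← (pderiv_fc a b p q r).1]
    exact Ideal.subset_span (Or.inr ⟨0, rfl⟩)
  have j2 : C b * X 0 + C q + 2 * (C r * X 1) ∈ J := by
    rw [← (pderiv_fc a b p q r).2]
    exact Ideal.subset_span (Or.inr ⟨1, rfl⟩)
  have hr : (C (4 * r - b ^ 2) : MvPolynomial (Fin 2) A) = 0 := by rw [hd2, C_0]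
  simp only [map_sub, map_mul, map_pow, map_ofNat] at hr
  have k1 : (C (4 * q - 2 * a * b) : MvPolynomial (Fin 2) A) ∈ J := by
    have h3 : (C (4 * q - 2 * a * b) : MvPolynomial (Fin 2) A) =
        4 * (C b * X 0 + C q + 2 * (C r * X 1)) - 2 * C b * (2 * X 0 + C a + C b * X 1) := by
      simp only [map_sub, map_mul, map_ofNat]
      linear_combination (-2 * X 1) * hr
    rw [h3]
    exact J.sub_mem (J.mul_mem_left _ j2) (J.mul_mem_left _ j1)
  rcases hu with hu | ⟨h0, hu⟩
  · exact Ideal.eq_top_of_isUnit_mem _ k1 (hu.map C)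
  · refine Ideal.eq_top_of_isUnit_mem _ (?_ : (C (4 * p - a ^ 2) : MvPolynomial (Fin 2) A) ∈ J) (hu.map C)
    have h3 : (C (4 * p - a ^ 2) : MvPolynomial (Fin 2) A) =
        C 4 * fc a b p q r - (2 * X 0 + C a + C b * X 1) * (2 * X 0 + C a + C b * X 1) := by
      rw [four_mul_fc, h0, hd2]
      simp only [map_zero, map_ofNat]
      ring
    rw [h3]
    exact J.sub_mem (J.mul_mem_left _ j0) (J.mul_mem_left _ j1)

end smooth

end K876.ConAlg
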