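import Groth.Agent.Fano.K123.ConA
import Groth.Agent.Fano.K423.ConE
import Groth.Agent.Lefpen.H719.Chart

/-!
# A plane conic over a field is a hypersurface in the projective plane

`exists_iso_hyp`: a conic `q : C ⟶ Spec Ω` with module `L` and coordinates `x` is `V_+(Q) ⊆ P²_Ω`, `Q` the form with the
coefficients `c`.
-/

set_option autoImplicit false

universe u

open CategoryTheory CategoryTheory.Limits AlgebraicGeometry TopologicalSpace

namespace K876.ConIso

open K390.PnSec Groth.Agent.Fdesc.LocGen Groth.Agent.Dix.ProjProper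
open K188.LineDef K745.ConDef K123 K123.ConA LefPen
open Groth.Agent.Ega2.H295.PnCoord

section Form

variable {A : Type u} [CommRing A]

theorem isHomogeneous_qf (c : Fin 5 → A) : (qf c).IsHomogeneous 2 := by
  have h1 : ∀ i j : Fin 3, (MvPolynomial.X i * MvPolynomial.X j : MvPolynomial (Fin 3) A).IsHomogeneous 2 :=
    fun i j => (MvPolynomial.isHomogeneous_X A i).mul (MvPolynomial.isHomogeneous_X A j)
  have h2 : ∀ i : Fin 3, (MvPolynomial.X i ^ 2 : MvPolynomial (Fin 3) A).IsHomogeneous 2 := fun i => by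
    rw [pow_two]; exact h1 i i
  have h3 : ∀ (a : A) (F : MvPolynomial (Fin 3) A), F.IsHomogeneous 2 → (MvPolynomial.C a * F).IsHomogeneous 2 :=
    fun a F hF => by simpa using (MvPolynomial.isHomogeneous_C (Fin 3) a).mul hF
  exact (((((h2 0).add (h3 _ _ (h1 0 1))).add (h3 _ _ (h1 0 2))).add (h3 _ _ (h2 1))).add
    (h3 _ _ (h1 1 2))).add (h3 _ _ (h2 2))

variable {k : Type u} [Field k]

/-- The quadratic form with coefficients `c`. -/
noncomputable def Qf (c : Fin 5 → k) : Form 2 k 2 :=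
  ⟨qf c, (MvPolynomial.mem_homogeneousSubmodule _ _).2 (isHomogeneous_qf c)⟩

theorem Qf_coe (c : Fin 5 → k) : (Qf c).1 = qf c := rfl

end Form

variable {Ω : Type u} [Field Ω] {C : Scheme.{u}}

/-- The coefficients as elements of the field. -/
noncomputable def cf (c : Fin 5 → Γ(Spec (CommRingCat.of Ω), ⊤)) (i : Fin 5) : Ω :=
  (Scheme.ΓSpecIso (CommRingCat.of Ω)).hom (c i)

theorem kmap_id (a : Ω) : kmap (𝟙 (Spec (CommRingCat.of Ω))) a = (Scheme.ΓSpecIso (CommRingCat.of Ω)).inv a := by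
  simp [kmap]

theorem kmap_cf (c : Fin 5 → Γ(Spec (CommRingCat.of Ω), ⊤)) (i : Fin 5) :
    kmap (𝟙 (Spec (CommRingCat.of Ω))) (cf c i) = c i := by
  rw [kmap_id]
  exact congr($((Scheme.ΓSpecIso (CommRingCat.of Ω)).hom_inv_id) (c i))

theorem map_qf_cf (c : Fin 5 → Γ(Spec (CommRingCat.of Ω), ⊤)) :
    (qf (cf c)).map (kmap (𝟙 (Spec (CommRingCat.of Ω)))) = qf c := by
  rw [map_qf]
  congr 1
  funext i
  exact kmap_cf c i

variable {q : C ⟶ Spec (CommRingCat.of Ω)} {c : Fin 5 → Γ(Spec (CommRingCat.of Ω), ⊤)} {L : C.Modules}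
  {x : Fin 3 → Γ(L, ⊤)}

theorem van_of_isCon (h : IsCon c q L x) : Van q x (qf c) := by
  obtain ⟨ι, rfl, hL, hι⟩ := h
  have h1 : Van (ι ≫ pr2 _) (fun i => pullTop ι (crd 2 _ i)) (qf c) := (hι.exists_iff ι).1 ⟨𝟙 _, Category.id_comp _⟩
  exact (van_iff_of_givenBy (givenBy_crd ι rfl) hL _ _).1 h1

/-- A plane conic over a field is a hypersurface in the projective plane. -/
theorem exists_iso_hyp (h : IsCon c q L x) :
    ∃ m : C ⟶ (hypIdeal (Qf (cf c))).subscheme, IsIso m ∧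
      m ≫ (hypIdeal (Qf (cf c))).subschemeι ≫ CohB1.ProjSpace.toSpec 2 Ω = q ∧
      GivenBy (m ≫ (hypIdeal (Qf (cf c))).subschemeι) L x := by
  have hv := van_of_isCon h
  have hgens : Gens x := by
    obtain ⟨ι, -, hL, -⟩ := h
    exact hL.iSup_genLocus
  obtain ⟨r, hrq, hr⟩ := exists_givenBy q x hgens
  have e1 : (Qf (cf c)).1.map (kmap (𝟙 (Spec (CommRingCat.of Ω)))) = qf c := map_qf_cf c
  obtain ⟨m, hm⟩ := (K423.ConE.exists_lift_iff_van q (𝟙 _) r (by rw [hrq, Category.comp_id]) x hr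
    (Qf (cf c))).2 (by rw [e1]; exact hv)
  -- the inverse
  set j := (hypIdeal (Qf (cf c))).subschemeι with hj
  have hjr : GivenBy j ((Scheme.Modules.pullback j).obj (O1 2 Ω)) (fun i => tsec j i) := GivenBy.refl j
  have hjv : Van (j ≫ CohB1.ProjSpace.toSpec 2 Ω) (fun i => tsec j i) (qf c) := by
    have h1 := (K423.ConE.exists_lift_iff_van (j ≫ CohB1.ProjSpace.toSpec 2 Ω) (𝟙 _) j
      (by rw [Category.comp_id]) _ hjr (Qf (cf c))).1 ⟨𝟙 _, Category.id_comp _⟩
    rwa [e1] at h1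
  have hinv : PicF.IsInvertible ((Scheme.Modules.pullback j).obj (O1 2 Ω)) := by
    exact Groth.Agent.Fdesc.LocGen.isInvertible_pullback j (isInvertible_O1 2 Ω)
  obtain ⟨s, ⟨hs1, τ, hτ⟩, -⟩ := existsUnique_hom h (j ≫ CohB1.ProjSpace.toSpec 2 Ω) _ hinv _ hjr.iSup_genLocus hjv
  obtain ⟨ι, hι1, hι2, hι3⟩ := h
  have := hι3.isClosedImmersion
  -- `s ≫ m = 𝟙`
  have hsL : GivenBy (s ≫ ι ≫ toZ 2 _) ((Scheme.Modules.pullback j).obj (O1 2 Ω)) (fun i => tsec j i) := by
    have h1 := (hι2.comp s).of_iso τ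
    rwa [funext hτ] at h1
  have hsm : s ≫ m = 𝟙 _ := by
    rw [← cancel_mono j, Category.assoc, hm, Category.id_comp]
    have h1 : GivenBy (s ≫ r) ((Scheme.Modules.pullback j).obj (O1 2 Ω)) (fun i => tsec j i) := by
      have h2 := (hr.comp s).of_iso τ
      rwa [funext hτ] at h2
    refine h1.unique hjr ?_
    rw [Category.assoc, hrq, hs1]
  have hms : m ≫ s = 𝟙 _ := by
    rw [← cancel_mono ι, Category.assoc, Category.id_comp]
    refine hom_ext_over ?_ ?_
    · have h1 : GivenBy (m ≫ j) _ (fun i => pullTop m (tsec j i)) := hjr.comp m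
      rw [hm] at h1
      obtain ⟨e, he⟩ := h1.exists_iso hr
      have h2 : GivenBy (m ≫ s ≫ ι ≫ toZ 2 _) L x := by
        obtain ⟨τ', hτ'⟩ := (hsL.comp m).of_iso e
        exact ⟨τ', fun i => (hτ' i).trans (he i)⟩
      have h3 := h2.unique' hι2
      simpa only [Category.assoc] using h3
    · have h4 : (ι ≫ CohB1.ProjSpaceOver.toBase 2 _) = q := hι1
      rw [Category.assoc, Category.assoc, h4, hs1, ← Category.assoc, hm, hrq]
  refine ⟨m, ⟨s, hms, hsm⟩, ?_, ?_⟩
  · rw [← Category.assoc, hm, hrq]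
  · rw [hm]; exact hr

end K876.ConIso
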