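import Groth.Agent.Fano.K876.ConNodal
import Groth.Agent.Fano.K876.ConIso
import Groth.Agent.S0115

/-!
# A plane conic of rank at least two over an algebraically closed field is at worst nodal
-/

set_option autoImplicit false

universe u

open CategoryTheory CategoryTheory.Limits AlgebraicGeometry TopologicalSpace MvPolynomial

namespace K876.ConNod

open K745.ConDef LefPen K876.ConAlg K876.ConNodal K876.ConIso Groth.Agent.Models Groth.Agent.Sga5

variable {k : Type u} [Field k]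

theorem exists_of_mem_chart {r : ℕ} (j : Fin (r + 1)) {x : CohB1.ProjSpace r k} (hx : x ∈ LefPen.chart r k j) :
    ∃ z : Spec (CommRingCat.of (MvPolynomial (Fin r) k)), ProjSmooth.chart r k j z = x := by
  rw [LefPen.chart, ← ProjSmooth.opensRange_chart] at hx
  exact hx

theorem dehom_qf_zero {A : Type u} [CommRing A] (c : Fin 5 → A) : ProjChart.dehom 2 A 0 (qf c) =
    1 + (C (c 0) + C (c 2) * X 0 + C (c 3) * X 1) * X 0 + (C (c 1) + C (c 4) * X 1) * X 1 := by
  have h0 : ProjChart.dehom 2 A 0 (X 0) = 1 := ProjChart.dehom_X_self (n := 2) (R := A) (i := 0)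
  have h1 : ProjChart.dehom 2 A 0 (X 1) = X 0 := ProjChart.dehom_X (n := 2) (R := A) (i := 0) 0
  have h2 : ProjChart.dehom 2 A 0 (X 2) = X 1 := ProjChart.dehom_X (n := 2) (R := A) (i := 0) 1
  simp only [qf, map_add, map_mul, map_pow, ProjChart.dehom_C, h0, h1, h2]
  ring

theorem chart_mem_iff {r : ℕ} (j i : Fin (r + 1)) (z : Spec (CommRingCat.of (MvPolynomial (Fin r) k))) :
    ProjSmooth.chart r k j z ∈ LefPen.chart r k i ↔ ProjChart.dehom r k j (MvPolynomial.X i) ∉ z.asIdeal := by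
  have h3 : z ∈ (ProjSmooth.chart r k j) ⁻¹ᵁ (LefPen.chart r k i) ↔
      ProjSmooth.chart r k j z ∈ LefPen.chart r k i := Iff.rfl
  rw [← h3, Groth.Agent.Lefpen.H719.Chart.chart_preimage]
  exact Iff.rfl

/-- The dehomogenized form vanishes at the points of the hypersurface. -/
theorem dehom_mem_of_chart_eq {r d : ℕ} (Q : Form r k d) (j : Fin (r + 1))
    (z : Spec (CommRingCat.of (MvPolynomial (Fin r) k))) (y : (hypIdeal Q).subscheme)
    (hz : ProjSmooth.chart r k j z = (hypIdeal Q).subschemeι y) : ProjChart.dehom r k j Q.1 ∈ z.asIdeal := by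
  obtain ⟨g, hg⟩ := Groth.Agent.Lefpen.H719.Chart.exists_chart
    (B := CommRingCat.of (MvPolynomial (Fin r) k ⧸ Ideal.span {ProjChart.dehom r k j Q.1}))
    Q j (Ideal.Quotient.mk _) Ideal.Quotient.mk_surjective Ideal.mk_ker
  obtain ⟨w, hw1, hw2⟩ := Scheme.Pullback.exists_preimage_pullback (f := ProjSmooth.chart r k j)
    (g := (hypIdeal Q).subschemeι) z y hz
  have h1 : Spec.map (CommRingCat.ofHom (Ideal.Quotient.mk (Ideal.span {ProjChart.dehom r k j Q.1})))
      (hg.isoPullback.inv w) = z := by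
    rw [← Scheme.Hom.comp_apply, IsPullback.isoPullback_inv_fst, hw1]
  rw [← h1]
  change Ideal.Quotient.mk (Ideal.span {ProjChart.dehom r k j Q.1}) (ProjChart.dehom r k j Q.1) ∈
    (hg.isoPullback.inv w).asIdeal
  rw [Ideal.Quotient.eq_zero_iff_mem.2 (Ideal.mem_span_singleton_self _)]
  exact Ideal.zero_mem _

/-- A conic is covered by the charts number one and two. -/
theorem exists_chart_pt (c : Fin 5 → k) (y : (hypIdeal (Qf c)).subscheme) :
    ∃ (j : Fin 3), (j = 1 ∨ j = 2) ∧ ∃ z : Spec (CommRingCat.of (MvPolynomial (Fin 2) k)),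
      ProjSmooth.chart 2 k j z = (hypIdeal (Qf c)).subschemeι y := by
  obtain ⟨j, z, hz⟩ := ProjSmooth.exists_mem_chart 2 k ((hypIdeal (Qf c)).subschemeι y)
  have hj : j = 0 ∨ j = 1 ∨ j = 2 := by
    fin_cases j <;> simp
  rcases hj with rfl | rfl | rfl
  · have hmem : ProjChart.dehom 2 k 0 (Qf c).1 ∈ z.asIdeal := dehom_mem_of_chart_eq (Qf c) 0 z y hz
    by_cases h1 : ProjChart.dehom 2 k 0 (X 1) ∈ z.asIdeal
    · by_cases h2 : ProjChart.dehom 2 k 0 (X 2) ∈ z.asIdeal
      · exfalso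
        have e1 : ProjChart.dehom 2 k 0 (X 1) = X 0 := ProjChart.dehom_X (n := 2) (R := k) (i := 0) 0
        have e2 : ProjChart.dehom 2 k 0 (X 2) = X 1 := ProjChart.dehom_X (n := 2) (R := k) (i := 0) 1
        rw [e1] at h1
        rw [e2] at h2
        rw [Qf_coe, dehom_qf_zero] at hmem
        refine (Ideal.ne_top_iff_one _).1 z.isPrime.ne_top ?_
        have h3 := (Submodule.add_mem_iff_left z.asIdeal (z.asIdeal.mul_mem_left _ h2)).1 hmem
        exact (Submodule.add_mem_iff_left z.asIdeal (z.asIdeal.mul_mem_left _ h1)).1 h3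
      · obtain ⟨z', hz'⟩ := exists_of_mem_chart 2 ((chart_mem_iff 0 2 z).2 h2)
        exact ⟨2, Or.inr rfl, z', hz'.trans hz⟩
    · obtain ⟨z', hz'⟩ := exists_of_mem_chart 1 ((chart_mem_iff 0 1 z).2 h1)
      exact ⟨1, Or.inl rfl, z', hz'.trans hz⟩
  · exact ⟨1, Or.inl rfl, z, hz⟩
  · exact ⟨2, Or.inr rfl, z, hz⟩

/-- The chart algebras. -/
theorem exists_chart_alg [IsAlgClosed k] (h2 : (2 : k) ≠ 0) (c : Fin 5 → k) (hd : ∃ i, disc3 c i ≠ 0) (j : Fin 3)
    (hj : j = 1 ∨ j = 2) :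
    ∃ (B : Type u) (_ : CommRing B) (_ : Algebra k B) (φ : MvPolynomial (Fin 2) k →ₐ[k] B),
      Function.Surjective φ ∧ RingHom.ker φ = Ideal.span {ProjChart.dehom 2 k j (Qf c).1} ∧
      @Curv2.AtWorstNodal k _ (Spec (CommRingCat.of B)) ⟨Spec.map (CommRingCat.ofHom (algebraMap k B))⟩ := by
  obtain ⟨i, hi⟩ := hd
  have hi3 : i = 0 ∨ i = 1 ∨ i = 2 := by
    fin_cases i <;> simp
  have e0 : disc3 c 0 = 4 * c 2 - c 0 ^ 2 := rfl
  have e1 : disc3 c 1 = 4 * c 3 - 2 * c 0 * c 1 := rfl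
  have e2 : disc3 c 2 = 4 * c 4 - c 1 ^ 2 := rfl
  rcases hj with rfl | rfl
  · rw [Qf_coe, dehom_qf_one]
    refine exists_chart_nodal h2 _ _ _ _ _ ?_
    rcases hi3 with rfl | rfl | rfl
    · exact Or.inl (e0 ▸ hi)
    · exact Or.inr (Or.inl (e1 ▸ hi))
    · exact Or.inr (Or.inr (e2 ▸ hi))
  · rw [Qf_coe, dehom_qf_two]
    refine exists_chart_nodal h2 _ _ _ _ _ ?_
    rcases hi3 with rfl | rfl | rfl
    · exact Or.inr (Or.inr (e0 ▸ hi))
    · refine Or.inr (Or.inl ?_)
      intro h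
      apply hi
      rw [e1, ← h]
      ring
    · exact Or.inl (e2 ▸ hi)

/-- A plane conic of rank at least two over an algebraically closed field is at worst nodal. -/
theorem atWorstNodal [IsAlgClosed k] (h2 : (2 : k) ≠ 0) (c : Fin 5 → k) (hd : ∃ i, disc3 c i ≠ 0) {Y : Scheme.{u}}
    (q : Y ⟶ Spec (CommRingCat.of k)) (m : Y ⟶ (hypIdeal (Qf c)).subscheme) [IsIso m]
    (hm : m ≫ (hypIdeal (Qf c)).subschemeι ≫ CohB1.ProjSpace.toSpec 2 k = q) :
    @Curv2.AtWorstNodal k _ Y ⟨q⟩ := by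
  let J : Type u := ULift.{u} {j : Fin 3 // j = 1 ∨ j = 2}
  have H : ∀ j : J, ∃ (B : Type u) (_ : CommRing B) (_ : Algebra k B) (g : Spec (CommRingCat.of B) ⟶ Y),
      Etale g ∧ g ≫ q = Spec.map (CommRingCat.ofHom (algebraMap k B)) ∧
      (∀ (y : Y) (z : Spec (CommRingCat.of (MvPolynomial (Fin 2) k))),
        ProjSmooth.chart 2 k j.down.1 z = (hypIdeal (Qf c)).subschemeι (m y) → y ∈ Set.range g) ∧
      @Curv2.AtWorstNodal k _ (Spec (CommRingCat.of B)) ⟨Spec.map (CommRingCat.ofHom (algebraMap k B))⟩ := by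
    rintro ⟨j, hj⟩
    obtain ⟨B, iB, iA, φ, hφ, hker, hB⟩ := exists_chart_alg h2 c hd j hj
    obtain ⟨g, hg⟩ := Groth.Agent.Lefpen.H719.Chart.exists_chart (B := CommRingCat.of B) (Qf c) j φ.toRingHom hφ hker
    have hgo : IsOpenImmersion g := by
      refine MorphismProperty.of_isPullback (P := @IsOpenImmersion) hg inferInstance
    refine ⟨B, iB, iA, g ≫ inv m, inferInstance, ?_, ?_, hB⟩
    · rw [← hm, Category.assoc, IsIso.inv_hom_id_assoc, ← Category.assoc, ← hg.w, Category.assoc,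
        ProjSmooth.chart_toSpec, ← Spec.map_comp]
      congr 1
      ext a
      exact φ.commutes a
    · intro y z hz
      obtain ⟨w, hw1, hw2⟩ := Scheme.Pullback.exists_preimage_pullback (f := ProjSmooth.chart 2 k j)
        (g := (hypIdeal (Qf c)).subschemeι) z (m y) hz
      refine ⟨hg.isoPullback.inv w, ?_⟩
      rw [← Scheme.Hom.comp_apply, ← Category.assoc, IsPullback.isoPullback_inv_snd, Scheme.Hom.comp_apply, hw2,
        ← Scheme.Hom.comp_apply, IsIso.hom_inv_id]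
      rfl
  choose B iB iA g hge hgq hgr hgn using H
  letI : Y.Over (Spec (CommRingCat.of k)) := ⟨q⟩
  letI : ∀ j : J, (Spec (CommRingCat.of (B j))).Over (Spec (CommRingCat.of k)) := fun j =>
    ⟨Spec.map (CommRingCat.ofHom (algebraMap k (B j)))⟩
  have hft : LocallyOfFiniteType (Y ↘ Spec (CommRingCat.of k)) := by
    change LocallyOfFiniteType q
    rw [← hm]
    have : LocallyOfFiniteType (CohB1.ProjSpace.toSpec 2 k) := inferInstance
    infer_instance
  refine Groth.Agent.CurvesB.NodalCover.atWorstNodal_of_etale_cover k g hgq ?_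
    (fun p q _ _ _ _ => Groth.Agent.S0115.result p q) hgn
  intro y
  obtain ⟨j, hj, z, hz⟩ := exists_chart_pt c (m y)
  exact ⟨⟨⟨j, hj⟩⟩, hgr ⟨⟨j, hj⟩⟩ y z hz⟩

end K876.ConNod
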