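import Groth.Agent.Fano.K876.ConAlg
import Groth.Agent.Fano.K745.ConDef
import Groth.Agent.Models.NodeNodal
import Groth.Agent.CurvesB.NodalCover
import Groth.Agent.Lefpen.H719.Chart
import Groth.Agent.Lefpen.H716.CIGeom

/-!
# Plane conics of rank at least two are nodal
-/

set_option autoImplicit false

universe u

open CategoryTheory CategoryTheory.Limits AlgebraicGeometry TopologicalSpace MvPolynomial

namespace K876.ConNodal

open K745.ConDef LefPen K876.ConAlg Groth.Agent.Models Groth.Agent.Sga5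

variable {k : Type u} [Field k]

theorem atWorstNodal_of_smooth {B : Type u} [CommRing B] [Algebra k B] [Algebra.Smooth k B] :
    @Curv2.AtWorstNodal k _ (Spec (CommRingCat.of B)) ⟨Spec.map (CommRingCat.ofHom (algebraMap k B))⟩ := by
  intro x _
  refine Or.inl ⟨⊤, trivial, ?_⟩
  have h1 : Smooth (Spec.map (CommRingCat.ofHom (algebraMap k B))) := by
    refine (HasRingHomProperty.Spec_iff (P := @Smooth)).mpr ?_
    change (algebraMap k B).Smooth
    rw [RingHom.smooth_algebraMap]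
    infer_instance
  change Smooth ((⊤ : (Spec (CommRingCat.of B)).Opens).ι ≫ Spec.map (CommRingCat.ofHom (algebraMap k B)))
  infer_instance

/-- The chart of a conic of rank at least two. -/
theorem exists_chart_nodal [IsAlgClosed k] (h2 : (2 : k) ≠ 0) (a b p q r : k)
    (hd : 4 * p - a ^ 2 ≠ 0 ∨ 4 * q - 2 * a * b ≠ 0 ∨ 4 * r - b ^ 2 ≠ 0) :
    ∃ (B : Type u) (_ : CommRing B) (_ : Algebra k B) (φ : MvPolynomial (Fin 2) k →ₐ[k] B),
      Function.Surjective φ ∧ RingHom.ker φ = Ideal.span {fc a b p q r} ∧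
      @Curv2.AtWorstNodal k _ (Spec (CommRingCat.of B)) ⟨Spec.map (CommRingCat.ofHom (algebraMap k B))⟩ := by
  by_cases hd2 : 4 * r - b ^ 2 = 0
  · have hs : Algebra.Smooth k (MvPolynomial (Fin 2) k ⧸ Ideal.span {fc a b p q r}) := by
      apply smooth_fc a b p q r hd2
      by_cases hd1 : 4 * q - 2 * a * b = 0
      · refine Or.inr ⟨hd1, IsUnit.mk0 _ ?_⟩
        rcases hd with h | h | h
        · exact h
        · exact absurd hd1 h
        · exact absurd hd2 h
      · exact Or.inl (IsUnit.mk0 _ hd1)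
    refine ⟨_, inferInstance, inferInstance, Ideal.Quotient.mkₐ k (Ideal.span {fc a b p q r}),
      Ideal.Quotient.mkₐ_surjective k _, Ideal.Quotient.mkₐ_ker k _, atWorstNodal_of_smooth⟩
  · obtain ⟨δ, hδ⟩ := IsAlgClosed.exists_pow_nat_eq (-(4 * r - b ^ 2)) (n := 2) two_pos
    have hδ0 : δ ≠ 0 := by
      rintro rfl
      apply hd2
      rw [zero_pow two_ne_zero] at hδ
      exact neg_eq_zero.1 hδ.symm
    have h2δ : 2 * δ ≠ 0 := mul_ne_zero h2 hδ0
    obtain ⟨φ, hφ1, hφ2⟩ := exists_node (h := (2⁻¹ : k)) (η := (2 * δ)⁻¹) (δ := δ) ((2 * δ)⁻¹ * (4 * q - 2 * a * b)) a b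
      (inv_mul_cancel₀ h2) (inv_mul_cancel₀ h2δ) p q r
      (by rw [← mul_assoc, mul_inv_cancel₀ h2δ, one_mul]) (by rw [hδ, neg_neg])
    exact ⟨_, inferInstance, inferInstance, φ, hφ1, hφ2, NodeNodal.atWorstNodal k _⟩

section dehom

variable {A : Type u} [CommRing A] (c : Fin 5 → A)

theorem dehom_qf_one : ProjChart.dehom 2 A 1 (qf c) = fc (c 0) (c 1) (c 2) (c 3) (c 4) := by
  have h0 : ProjChart.dehom 2 A 1 (X 0) = X 0 := ProjChart.dehom_X (n := 2) (R := A) (i := 1) 0
  have h1 : ProjChart.dehom 2 A 1 (X 1) = 1 := ProjChart.dehom_X_self (n := 2) (R := A) (i := 1)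
  have h2 : ProjChart.dehom 2 A 1 (X 2) = X 1 := ProjChart.dehom_X (n := 2) (R := A) (i := 1) 1
  simp only [qf, fc, map_add, map_mul, map_pow, ProjChart.dehom_C, h0, h1, h2]
  ring

theorem dehom_qf_two : ProjChart.dehom 2 A 2 (qf c) = fc (c 1) (c 0) (c 4) (c 3) (c 2) := by
  have h0 : ProjChart.dehom 2 A 2 (X 0) = X 0 := ProjChart.dehom_X (n := 2) (R := A) (i := 2) 0
  have h1 : ProjChart.dehom 2 A 2 (X 1) = X 1 := ProjChart.dehom_X (n := 2) (R := A) (i := 2) 1
  have h2 : ProjChart.dehom 2 A 2 (X 2) = 1 := ProjChart.dehom_X_self (n := 2) (R := A) (i := 2)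
  simp only [qf, fc, map_add, map_mul, map_pow, ProjChart.dehom_C, h0, h1, h2]
  ring

end dehom

end K876.ConNodal
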